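import Groth.Agent.StalkPrimeLib.Basic
import Groth.Agent.StalkHomLib.StalkExt
import Groth.Agent.AssLib.Noetherian
import Groth.Agent.DCohLib.SuppOpen
import Mathlib.RingTheory.Depth.Rees

/-!
# Vanishing of Ext sheaves and depth
-/

set_option autoImplicit false
set_option backward.isDefEq.respectTransparency false
set_option linter.style.haveILetI false
universe u

open CategoryTheory Limits AlgebraicGeometry TopologicalSpace Abelian
open Groth.Agent.DCohLib

namespace Groth.Agent.ExtVanLib

theorem depth_ge_of_ext {R : Type u} [CommRing R] [IsLocalRing R] [IsNoetherianRing R] (N M : ModuleCat.{u} R)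
    [Module.Finite R N] [Nontrivial N] [Module.Finite R M] (n : ℕ)
    (h : ∀ i < n, Subsingleton (Ext.{u} N M i)) : (n : ℕ∞) ≤ LocCoh.depth R M := by
  unfold LocCoh.depth
  by_cases hM : IsLocalRing.maximalIdeal R • (⊤ : Submodule R M) = ⊤
  · rw [LocCoh.idealDepth, if_pos hM]
    exact le_top
  have hI : Module.annihilator R N ≤ IsLocalRing.maximalIdeal R := IsLocalRing.le_maximalIdeal fun htop =>
    not_subsingleton N (Module.annihilator_eq_top_iff.1 htop)
  obtain ⟨rs, hlen, hmem, hreg⟩ := ModuleCat.exists_isRegular_of_exists_subsingleton_ext (Module.annihilator R N) n M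
    (lt_top_iff_ne_top.2 fun htop => hM (top_le_iff.1 (htop.ge.trans (Submodule.smul_mono_left hI)))) N
    Module.support_eq_zeroLocus h
  exact (Depth.le_idealDepth_iff hM n).2 ⟨rs, hlen, fun r hr => hI (hmem r hr), hreg.1⟩

theorem subsingleton_ext {R : Type u} [CommRing R] [IsLocalRing R] [IsNoetherianRing R] (N M : ModuleCat.{u} R)
    [Module.Finite R N] [Module.Finite R M] (n : ℕ)
    (h : ∀ p ∈ Module.support R N,
      (n : ℕ∞) ≤ LocCoh.depth (Localization.AtPrime p.asIdeal) (LocalizedModule p.asIdeal.primeCompl M))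
    (i : ℕ) (hi : i < n) : Subsingleton (Ext.{u} N M i) := by
  rcases subsingleton_or_nontrivial N with hN | hN
  · exact subsingleton_of_forall_eq 0 fun e => by
      rw [← Ext.mk₀_id_comp e, show 𝟙 N = 0 from (ModuleCat.isZero_of_subsingleton N).eq_of_src _ _]
      simp
  rcases subsingleton_or_nontrivial M with hM | hM
  · exact subsingleton_of_forall_eq 0 fun e => by
      rw [← Ext.comp_mk₀_id e, show 𝟙 M = 0 from (ModuleCat.isZero_of_subsingleton M).eq_of_src _ _]
      simp
  let I := Module.annihilator R N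
  have hI : I ≤ IsLocalRing.maximalIdeal R := IsLocalRing.le_maximalIdeal fun htop =>
    not_subsingleton N (Module.annihilator_eq_top_iff.1 htop)
  have hne : I • (⊤ : Submodule R M) ≠ ⊤ := fun htop =>
    top_ne_bot (Submodule.eq_bot_of_le_smul_of_le_jacobson_bot I ⊤ Module.Finite.fg_top htop.ge
      (hI.trans (IsLocalRing.jacobson_eq_maximalIdeal ⊥ bot_ne_top).ge))
  have hd : (n : ℕ∞) ≤ LocCoh.idealDepth I M := by
    rw [S5152.result R I M]
    exact le_iInf₂ fun p hp => h p (by rw [Module.support_eq_zeroLocus]; exact hp)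
  obtain ⟨rs, hlen, hmem, hw⟩ := (Depth.le_idealDepth_iff hne n).1 hd
  exact ModuleCat.subsingleton_ext_of_exists_isRegular I N Module.support_eq_zeroLocus.le M hne.lt_top rs hmem
    (Depth.isRegular_of_isWeaklyRegular hne hw hmem) i (hlen ▸ hi)

variable {X : Scheme.{u}}

theorem finite_stalk (F : X.Modules) (hF : Coh.IsCoh F) (x : X) :
    Module.Finite (X.presheaf.stalk x) (F.presheaf.stalk x) := by
  haveI := hF.1
  obtain ⟨W, hW, hxW, -⟩ := exists_isAffineOpen_mem_and_subset (X := X) (x := x) (U := ⊤) trivial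
  haveI := QCohLib.finite_sections_of_isCoh hF hW
  letI := Module.compHom (F.presheaf.stalk x) (X.presheaf.germ W x hxW).hom
  haveI := FlatLocus.isLocalizedModule_germL F hW x hxW
  letI : Algebra Γ(X, W) (X.presheaf.stalk x) := TopCat.Presheaf.algebra_section_stalk X.presheaf ⟨x, hxW⟩
  haveI := hW.isLocalization_stalk ⟨x, hxW⟩
  haveI : IsScalarTower Γ(X, W) (X.presheaf.stalk x) (F.presheaf.stalk x) := .of_algebraMap_smul fun _ _ => rfl
  exact Module.Finite.of_isLocalizedModule (AssLib.pr hW hxW).primeCompl (FlatLocus.germL F W x hxW)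

variable [IsLocallyNoetherian X]

/-- The Ext sheaf as a module on the scheme. -/
noncomputable abbrev extS (F : X.Modules) [ModSite.HasSheafHom (O := X.sheaf) F]
    [HasInjectiveResolutions (ModSite.Mod X.sheaf)] (G : X.Modules) (i : ℕ) : X.Modules :=
  (ModSite.extSh (O := X.sheaf) F i).obj G

theorem stalk_extSh_equiv (F : X.Modules) (hF : Coh.IsCoh F) [ModSite.HasSheafHom (O := X.sheaf) F]
    [HasInjectiveResolutions (ModSite.Mod X.sheaf)] (G : X.Modules) (x : X) (i : ℕ) :
    Nonempty ((extS F G i).presheaf.stalk x ≃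
      Ext.{u} (ModuleCat.of (X.presheaf.stalk x) (F.presheaf.stalk x))
        (ModuleCat.of (X.presheaf.stalk x) (G.presheaf.stalk x)) i) := by
  haveI : HasInjectiveResolutions X.Modules := ‹HasInjectiveResolutions (ModSite.Mod X.sheaf)›
  obtain ⟨l⟩ := StalkHomLib.nonempty_stkR_extSh_iso F x (S := X.presheaf.stalk x) (RingEquiv.refl _) hF G i
  let θ : ∀ M : X.Modules, (StalkHomLib.stkR x (S := X.presheaf.stalk x) (RingEquiv.refl _)).obj M ≅
      ModuleCat.of (X.presheaf.stalk x) (M.presheaf.stalk x) := fun M =>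
    (ModuleCat.restrictScalarsId' (RingEquiv.refl (X.presheaf.stalk x)).toRingHom rfl).app ((stkF x).obj M)
  refine ⟨l.toLinearEquiv.toEquiv.trans ?_⟩
  exact
    { toFun := fun z => (Ext.mk₀ (θ F).inv).comp (z.comp (Ext.mk₀ (θ G).hom) (add_zero i)) (zero_add i)
      invFun := fun z => (Ext.mk₀ (θ F).hom).comp (z.comp (Ext.mk₀ (θ G).inv) (add_zero i)) (zero_add i)
      left_inv := fun z => by simp
      right_inv := fun z => by simp }

variable [∀ M : X.Modules, ModSite.HasSheafHom (O := X.sheaf) M] [HasInjectiveResolutions (ModSite.Mod X.sheaf)]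

theorem depth_ge_of_isZero (U : X.Opens) (F : X.Modules) (hF : Coh.IsCoh F) (n : ℕ) (G : X.Modules)
    (hG : Coh.IsCoh G) (h : ∀ i : ℕ, i < n → IsZero ((ModSite.extSh (O := X.sheaf) G i).obj F))
    (x : X) (hx : x ∈ CohB1.support G) :
    (n : ℕ∞) ≤ LocCoh.depth (X.presheaf.stalk x) (F.presheaf.stalk x) := by
  haveI := finite_stalk F hF x
  haveI := finite_stalk G hG x
  haveI : Nontrivial (G.presheaf.stalk x) := not_subsingleton_iff_nontrivial.1 hx
  refine depth_ge_of_ext (ModuleCat.of (X.presheaf.stalk x) (G.presheaf.stalk x))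
    (ModuleCat.of (X.presheaf.stalk x) (F.presheaf.stalk x)) n fun i hi => ?_
  obtain ⟨e⟩ := stalk_extSh_equiv G hG F x i
  haveI := subsingleton_stalk_of_isZero (M := extS G F i) (h i hi) x
  exact e.subsingleton_congr.1 ‹_›

theorem isZero_of_depth (U : X.Opens) (F : X.Modules) (hF : Coh.IsCoh F) (n : ℕ)
    (h : ∀ x : X, x ∉ (U : Set X) → (n : ℕ∞) ≤ LocCoh.depth (X.presheaf.stalk x) (F.presheaf.stalk x))
    (G : X.Modules) (hG : Coh.IsCoh G) (hsupp : ∀ x ∈ CohB1.support G, x ∉ (U : Set X))
    (i : ℕ) (hi : i < n) : IsZero ((ModSite.extSh (O := X.sheaf) G i).obj F) := by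
  refine isZero_of_stalks (M := extS G F i) fun x => ?_
  haveI := finite_stalk F hF x
  haveI := finite_stalk G hG x
  obtain ⟨e⟩ := stalk_extSh_equiv G hG F x i
  refine e.subsingleton_congr.2 (subsingleton_ext _ _ n (fun P hP => ?_) i hi)
  obtain ⟨y, -, hy⟩ := StalkPrimeLib.exists_generization x P
  rw [(hy F hF).1]
  exact h y (hsupp y (not_subsingleton_iff_nontrivial.2 ((hy G hG).2 hP)))

end Groth.Agent.ExtVanLib
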